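import Groth.Prelude.Def_W4c3convisocdirimgFrobIter
import Mathlib

set_option autoImplicit false
universe u
open CategoryTheory CategoryTheory.Limits AlgebraicGeometry

namespace Groth.Agent.H8.FrobIterLift

open FrobSch

section Basic

variable (T : Scheme.{u}) (p : ℕ) [Fact p.Prime] [IsCharP T p]

instance quasiCompact_frob : QuasiCompact (frob T p) :=
  ⟨fun _ _ hc => hc⟩

instance quasiCompact_frobIter (n : ℕ) : QuasiCompact (frobIter T p n) := by
  induction n with
  | zero => rw [frobIter_zero]; infer_instance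
  | succ n ih =>
    have := ih
    rw [frobIter_succ]; infer_instance

theorem frobIter_app_eq_zero_iff (n : ℕ) (U : T.Opens) (s : Γ(T, U)) :
    (frobIter T p n).app U s = 0 ↔ s ^ (p ^ n) = 0 := by
  induction n generalizing s with
  | zero =>
    rw [pow_zero, pow_one]
    exact Iff.rfl
  | succ n ih =>
    have h1 : ((frobIter T p (n + 1)).app U s = 0) = (((frobIter T p n).app U s) ^ p = 0) := rfl
    rw [h1, ← map_pow, ih, ← pow_mul, ← pow_succ']

theorem ker_le (n : ℕ) :
    (frobIter T p (n + 1)).ker ≤ ((frobIter T p n).ker.subschemeι ≫ frob T p).ker := by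
  refine (Scheme.IdealSheafData.le_ofIdeals_iff (J := fun U =>
    RingHom.ker (((frobIter T p n).ker.subschemeι ≫ frob T p).app U).hom)).mpr ?_
  refine Pi.le_def.mpr fun U => SetLike.le_def.mpr fun s hs => ?_
  have h1 : s ^ (p ^ (n + 1)) = 0 := by
    have := (frobIter T p (n + 1)).ideal_ker_le U hs
    rw [RingHom.mem_ker] at this
    exact (frobIter_app_eq_zero_iff T p (n + 1) U.1 s).mp this
  have h2 : s ^ p ∈ (frobIter T p n).ker.ideal U := by
    rw [Scheme.Hom.ker_apply, RingHom.mem_ker]
    apply (frobIter_app_eq_zero_iff T p n U.1 (s ^ p)).mpr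
    rw [← pow_mul, ← pow_succ']
    exact h1
  rw [← Scheme.IdealSheafData.ker_subschemeι_app, RingHom.mem_ker] at h2
  rw [RingHom.mem_ker]
  exact h2

/-- The map `T^(n) ⟶ T^(n+1)` induced by Frobenius. -/
noncomputable def phi (n : ℕ) :
    (frobIter T p n).ker.subscheme ⟶ (frobIter T p (n + 1)).ker.subscheme :=
  IsClosedImmersion.lift (frobIter T p (n + 1)).ker.subschemeι
    ((frobIter T p n).ker.subschemeι ≫ frob T p)
    (by rw [Scheme.IdealSheafData.ker_subschemeι]; exact ker_le T p n)

theorem phi_fac (n : ℕ) :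
    phi T p n ≫ (frobIter T p (n + 1)).ker.subschemeι =
      (frobIter T p n).ker.subschemeι ≫ frob T p :=
  IsClosedImmersion.lift_fac _ _ _

end Basic

theorem main (p : ℕ) [Fact p.Prime] (k : Type u) [Field k] [CharP k p] (n : ℕ)
    {T X : Scheme.{u}} [IsCharP T p] (t : T ⟶ Spec (CommRingCat.of k))
    (x : X ⟶ Spec (CommRingCat.of k))
    (i : T.nilradical.subscheme ⟶ (frobIter T p (n + 1)).ker.subscheme)
    (hi : i ≫ (frobIter T p (n + 1)).ker.subschemeι = T.nilradical.subschemeι)
    (j : T.nilradical.subscheme ⟶ (frobIter T p n).ker.subscheme)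
    (hj : j ≫ (frobIter T p n).ker.subschemeι = T.nilradical.subschemeι)
    (w : (frobIter T p (n + 1)).ker.subscheme ⟶ X)
    (hw : w ≫ x = (frobIter T p (n + 1)).ker.subschemeι ≫ t) :
    ∃ v : (frobIter T p n).ker.subscheme ⟶ frobTwist x p,
      v ≫ pullback.snd x (frob (Spec (CommRingCat.of k)) p) =
          (frobIter T p n).ker.subschemeι ≫ t ∧
        j ≫ v = i ≫ w ≫ relFrob x p := by
  have : IsCharP X p := IsCharP.of_hom x p
  have : IsCharP T.nilradical.subscheme p := IsCharP.of_hom T.nilradical.subschemeι p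
  have hcomm : (phi T p n ≫ w) ≫ x =
      ((frobIter T p n).ker.subschemeι ≫ t) ≫ frob (Spec (CommRingCat.of k)) p := by
    rw [Category.assoc, hw, ← Category.assoc, phi_fac, Category.assoc, Category.assoc, frob_comp]
  refine ⟨pullback.lift (phi T p n ≫ w) ((frobIter T p n).ker.subschemeι ≫ t) hcomm,
    pullback.lift_snd _ _ _, ?_⟩
  have hjphi : j ≫ phi T p n = frob T.nilradical.subscheme p ≫ i := by
    rw [← cancel_mono (frobIter T p (n + 1)).ker.subschemeι, Category.assoc, phi_fac,
      ← Category.assoc, hj, Category.assoc, hi, frob_comp]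
  apply pullback.hom_ext
  · rw [Category.assoc, pullback.lift_fst, Category.assoc, Category.assoc, relFrob_fst,
      ← Category.assoc, hjphi, Category.assoc, frob_comp, Category.assoc]
  · rw [Category.assoc, pullback.lift_snd, Category.assoc, Category.assoc, relFrob_snd, hw,
      ← Category.assoc, hj, ← Category.assoc, hi]

end Groth.Agent.H8.FrobIterLift
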