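import Mathlib
import Groth.Prelude.Def_FrobAlg

set_option autoImplicit false

namespace Groth.Agent.H8.FrobPerf

open TensorProduct

universe u v w

/-! ### Coordinates on `P ⊗ Z` for projective `P` -/
section Coord

attribute [local instance] Classical.propDecidable

variable {R : Type*} [CommRing R] {P : Type*} [AddCommGroup P] [Module R P]

noncomputable def coord (s : P →ₗ[R] (P →₀ R)) (Z : Type*) [AddCommGroup Z] [Module R Z] :
    P ⊗[R] Z →ₗ[R] (P →₀ Z) :=
  (TensorProduct.finsuppScalarLeft R Z P).toLinearMap ∘ₗ (s.rTensor Z)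

theorem coord_tmul (s : P →ₗ[R] (P →₀ R)) {Z : Type*} [AddCommGroup Z] [Module R Z]
    (x : P) (z : Z) (b : P) : coord s Z (x ⊗ₜ z) b = s x b • z := by
  simp [coord, TensorProduct.finsuppScalarLeft_apply_tmul_apply]

theorem coord_nat (s : P →ₗ[R] (P →₀ R)) {X Y : Type*} [AddCommGroup X] [Module R X]
    [AddCommGroup Y] [Module R Y] (g : X →ₗ[R] Y) (w : P ⊗[R] X) (b : P) :
    coord s Y (g.lTensor P w) b = g (coord s X w b) := by
  induction w using TensorProduct.induction_on with
  | zero => simp
  | tmul x z => rw [LinearMap.lTensor_tmul, coord_tmul, coord_tmul, map_smul]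
  | add w1 w2 h1 h2 => simp only [map_add, Finsupp.add_apply, h1, h2]

theorem coord_injective (s : P →ₗ[R] (P →₀ R))
    (hs : Finsupp.linearCombination R id ∘ₗ s = LinearMap.id)
    (Z : Type*) [AddCommGroup Z] [Module R Z] : Function.Injective (coord s Z) := by
  intro w1 w2 h
  have h1 : s.rTensor Z w1 = s.rTensor Z w2 :=
    (TensorProduct.finsuppScalarLeft R Z P).injective h
  have h2 := congrArg ((Finsupp.linearCombination R (id : P → P)).rTensor Z) h1
  rwa [← LinearMap.rTensor_comp_apply, ← LinearMap.rTensor_comp_apply, hs,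
    LinearMap.rTensor_id_apply, LinearMap.rTensor_id_apply] at h2

theorem eq_zero_of_lTensor_eq_zero [Module.Projective R P]
    {X : Type*} [AddCommGroup X] [Module R X] {ι : Type*} {Y : ι → Type*}
    [∀ i, AddCommGroup (Y i)] [∀ i, Module R (Y i)] (g : ∀ i, X →ₗ[R] Y i)
    (hg : ∀ x : X, (∀ i, g i x = 0) → x = 0) (w : P ⊗[R] X)
    (hw : ∀ i, (g i).lTensor P w = 0) : w = 0 := by
  obtain ⟨s, hs⟩ := Module.projective_def'.mp (inferInstance : Module.Projective R P)
  apply coord_injective s hs X
  rw [map_zero]
  ext b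
  rw [Finsupp.zero_apply]
  apply hg
  intro i
  rw [← coord_nat, hw i, map_zero, Finsupp.zero_apply]

end Coord

/-! ### Abstract algebra lemmas -/
section Alg

theorem projective_trans {R A B : Type*} [CommRing R] [CommRing A] [CommRing B]
    [Algebra R A] [Algebra R B] (f : A →ₐ[R] B) [Module.Projective R A]
    (h : letI := f.toRingHom.toAlgebra; Module.Projective A B) : Module.Projective R B := by
  classical
  letI := f.toRingHom.toAlgebra
  haveI : IsScalarTower R A B := IsScalarTower.of_algebraMap_eq (fun r => (f.commutes r).symm)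
  obtain ⟨s, hs⟩ := Module.projective_def'.mp h
  haveI : Module.Projective R (B →₀ A) :=
    Module.Projective.of_equiv' (finsuppLequivDFinsupp R).symm
  exact Module.Projective.of_split (s.restrictScalars R)
    ((Finsupp.linearCombination A (id : B → B)).restrictScalars R)
    (LinearMap.ext fun x => LinearMap.congr_fun hs x)

theorem rTensor_injective_of_faithfullyFlat {R A B : Type*} [CommRing R] [CommRing A]
    [CommRing B] [Algebra R A] [Algebra R B] (f : A →ₐ[R] B)
    (h : letI := f.toRingHom.toAlgebra; Module.FaithfullyFlat A B)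
    (N : Type*) [AddCommGroup N] [Module R N] :
    Function.Injective (f.toLinearMap.rTensor N) := by
  letI := f.toRingHom.toAlgebra
  haveI : IsScalarTower R A B := IsScalarTower.of_algebraMap_eq (fun r => (f.commutes r).symm)
  haveI := h
  have h1 := Module.FaithfullyFlat.tensorProduct_mk_injective (A := A) (B := B) (A ⊗[R] N)
  have key : ∀ w : A ⊗[R] N, f.toLinearMap.rTensor N w =
      TensorProduct.AlgebraTensorModule.cancelBaseChange R A B B N ((1 : B) ⊗ₜ[A] w) := by
    intro w
    induction w using TensorProduct.induction_on with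
    | zero => simp
    | tmul a ν =>
      rw [LinearMap.rTensor_tmul, TensorProduct.AlgebraTensorModule.cancelBaseChange_tmul,
        Algebra.smul_def, mul_one]
      rfl
    | add w1 w2 h1 h2 => rw [map_add, TensorProduct.tmul_add, map_add, h1, h2]
  intro w1 w2 hw
  rw [key, key] at hw
  exact h1 ((TensorProduct.AlgebraTensorModule.cancelBaseChange R A B B N).injective hw)

theorem faithfullyFlat_of_section {A B : Type*} [CommRing A] [CommRing B] [Algebra A B]
    [Module.Flat A B] (k : ℕ) (hk : k ≠ 0) (ψ : B →+* A)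
    (hψ : ∀ a, ψ (algebraMap A B a) = a ^ k) : Module.FaithfullyFlat A B := by
  refine ⟨fun m hm htop => ?_⟩
  rw [Ideal.smul_top_eq_map] at htop
  have h1 : (1 : B) ∈ m.map (algebraMap A B) := by
    have : (1 : B) ∈ (m.map (algebraMap A B)).restrictScalars A := by rw [htop]; trivial
    exact this
  have h2 : ψ 1 ∈ (m.map (algebraMap A B)).map ψ := Ideal.mem_map_of_mem ψ h1
  rw [Ideal.map_map, map_one] at h2
  have h3 : m.map (ψ.comp (algebraMap A B)) ≤ m := by
    rw [Ideal.map_le_iff_le_comap]
    intro a ha
    show ψ (algebraMap A B a) ∈ m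
    rw [hψ]
    exact Ideal.pow_mem_of_mem m ha k (Nat.pos_of_ne_zero hk)
  exact hm.ne_top ((Ideal.eq_top_iff_one m).mpr (h3 h2))

end Alg

/-! ### Towers of subalgebras -/
section Tower

variable {R : Type u} [CommRing R] {S : Type v} [CommRing S] [Algebra R S]
  (U : ℕ → Subalgebra R S) (hmono : Monotone U) (hU : ∀ y : S, ∃ n, y ∈ U n)

include hmono in
theorem inclusion_rTensor_injective
    (hpure : ∀ (n : ℕ) (N : Type w) [AddCommGroup N] [Module R N],
      Function.Injective
        ((Subalgebra.inclusion (hmono (Nat.le_succ n))).toLinearMap.rTensor N))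
    (N : Type w) [AddCommGroup N] [Module R N] {n m : ℕ} (h : n ≤ m) :
    Function.Injective ((Subalgebra.inclusion (hmono h)).toLinearMap.rTensor N) := by
  induction m, h using Nat.le_induction with
  | base =>
    have : (Subalgebra.inclusion (hmono (le_refl n))).toLinearMap = LinearMap.id :=
      LinearMap.ext fun x => rfl
    rw [this, LinearMap.rTensor_id]
    exact Function.injective_id
  | succ m h ih =>
    have : (Subalgebra.inclusion (hmono (Nat.le_succ_of_le h))).toLinearMap =
        (Subalgebra.inclusion (hmono (Nat.le_succ m))).toLinearMap ∘ₗ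
          (Subalgebra.inclusion (hmono h)).toLinearMap := LinearMap.ext fun x => rfl
    rw [this, LinearMap.rTensor_comp]
    exact (hpure m N).comp ih

include hmono hU in
theorem exists_lift {X : Type*} [AddCommGroup X] [Module R X] (z : S ⊗[R] X) :
    ∃ (n : ℕ) (w : (U n) ⊗[R] X), (U n).val.toLinearMap.rTensor X w = z := by
  induction z using TensorProduct.induction_on with
  | zero => exact ⟨0, 0, map_zero _⟩
  | tmul y x =>
    obtain ⟨n, hn⟩ := hU y
    exact ⟨n, (⟨y, hn⟩ : U n) ⊗ₜ x, by rw [LinearMap.rTensor_tmul]; rfl⟩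
  | add z1 z2 h1 h2 =>
    obtain ⟨n1, w1, rfl⟩ := h1
    obtain ⟨n2, w2, rfl⟩ := h2
    refine ⟨max n1 n2,
      (Subalgebra.inclusion (hmono (le_max_left n1 n2))).toLinearMap.rTensor X w1 +
      (Subalgebra.inclusion (hmono (le_max_right n1 n2))).toLinearMap.rTensor X w2, ?_⟩
    have e1 : (U (max n1 n2)).val.toLinearMap ∘ₗ
        (Subalgebra.inclusion (hmono (le_max_left n1 n2))).toLinearMap =
        (U n1).val.toLinearMap := LinearMap.ext fun x => rfl
    have e2 : (U (max n1 n2)).val.toLinearMap ∘ₗ
        (Subalgebra.inclusion (hmono (le_max_right n1 n2))).toLinearMap =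
        (U n2).val.toLinearMap := LinearMap.ext fun x => rfl
    rw [map_add, ← LinearMap.rTensor_comp_apply, ← LinearMap.rTensor_comp_apply, e1, e2]

include hmono hU in
theorem val_rTensor_injective
    (hpure : ∀ (n : ℕ) (N : Type w) [AddCommGroup N] [Module R N],
      Function.Injective
        ((Subalgebra.inclusion (hmono (Nat.le_succ n))).toLinearMap.rTensor N))
    (N : Type w) [AddCommGroup N] [Module R N] (n : ℕ) :
    Function.Injective ((U n).val.toLinearMap.rTensor N) := by
  let f : ∀ i j : ℕ, i ≤ j → (U i) →ₗ[R] (U j) :=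
    fun i j h => (Subalgebra.inclusion (hmono h)).toLinearMap
  haveI : DirectedSystem (fun i : ℕ => ↥(U i)) (fun i j h => f i j h) :=
    ⟨fun i x => rfl, fun k j i hij hjk x => rfl⟩
  let lam : Module.DirectLimit (fun i : ℕ => ↥(U i)) f →ₗ[R] S :=
    Module.DirectLimit.lift R ℕ (fun i : ℕ => ↥(U i)) f (fun i => (U i).val.toLinearMap)
      (fun i j h x => rfl)
  have hlam_inj : Function.Injective lam :=
    Module.DirectLimit.lift_injective _ _ (fun i => Subtype.val_injective)
  have hlam_surj : Function.Surjective lam := by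
    intro y
    obtain ⟨i, hi⟩ := hU y
    exact ⟨Module.DirectLimit.of R ℕ (fun i : ℕ => ↥(U i)) f i ⟨y, hi⟩,
      Module.DirectLimit.lift_of _ _ _⟩
  let e : Module.DirectLimit (fun i : ℕ => ↥(U i)) f ≃ₗ[R] S :=
    LinearEquiv.ofBijective lam ⟨hlam_inj, hlam_surj⟩
  have hval : (U n).val.toLinearMap =
      e.toLinearMap ∘ₗ Module.DirectLimit.of R ℕ (fun i : ℕ => ↥(U i)) f n := by
    refine LinearMap.ext fun x => ?_
    show _ = Module.DirectLimit.lift R ℕ (fun i : ℕ => ↥(U i)) f
      (fun i => (U i).val.toLinearMap) (fun i j h x => rfl)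
      (Module.DirectLimit.of R ℕ (fun i : ℕ => ↥(U i)) f n x)
    rw [Module.DirectLimit.lift_of]
  have hinj_e : Function.Injective (e.toLinearMap.rTensor N) := by
    apply Function.LeftInverse.injective (g := e.symm.toLinearMap.rTensor N)
    intro x
    rw [← LinearMap.rTensor_comp_apply]
    have : e.symm.toLinearMap ∘ₗ e.toLinearMap = LinearMap.id :=
      LinearMap.ext fun y => e.symm_apply_apply y
    rw [this, LinearMap.rTensor_id_apply]
  rw [injective_iff_map_eq_zero]
  intro w hw
  rw [hval, LinearMap.rTensor_comp_apply] at hw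
  have h0 : (Module.DirectLimit.of R ℕ (fun i : ℕ => ↥(U i)) f n).rTensor N w = 0 :=
    hinj_e (hw.trans (map_zero _).symm)
  have h1 := TensorProduct.directLimitLeft_rTensor_of f N w
  rw [h0, map_zero] at h1
  obtain ⟨m, hnm, hm⟩ := Module.DirectLimit.of.zero_exact h1.symm
  exact inclusion_rTensor_injective U hmono hpure N hnm (hm.trans (map_zero _).symm)

include hmono hU in
theorem tower_injective
    (hproj : ∀ n, Module.Projective R (U n))
    (hpure : ∀ (n : ℕ) (N : Type w) [AddCommGroup N] [Module R N],
      Function.Injective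
        ((Subalgebra.inclusion (hmono (Nat.le_succ n))).toLinearMap.rTensor N))
    {X : Type*} [AddCommGroup X] [Module R X] {ι : Type*} {Y : ι → Type w}
    [∀ i, AddCommGroup (Y i)] [∀ i, Module R (Y i)] (g : ∀ i, X →ₗ[R] Y i)
    (hg : ∀ x : X, (∀ i, g i x = 0) → x = 0) :
    Function.Injective (LinearMap.pi fun i => (g i).lTensor S) := by
  rw [injective_iff_map_eq_zero]
  intro z hz
  have hz' : ∀ i, (g i).lTensor S z = 0 := fun i => by
    have := congrFun hz i
    simpa using this
  obtain ⟨n, w, rfl⟩ := exists_lift U hmono hU z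
  haveI := hproj n
  have hw : ∀ i, (g i).lTensor (U n) w = 0 := by
    intro i
    apply val_rTensor_injective U hmono hU hpure (Y i) n
    have h1 : (U n).val.toLinearMap.rTensor (Y i) ((g i).lTensor (U n) w) =
        (g i).lTensor S ((U n).val.toLinearMap.rTensor X w) := by
      rw [← LinearMap.comp_apply, ← LinearMap.comp_apply, LinearMap.rTensor_comp_lTensor,
        LinearMap.lTensor_comp_rTensor]
    rw [h1, hz' i, map_zero]
  rw [eq_zero_of_lTensor_eq_zero g hg w hw, map_zero]

end Tower

/-! ### The perfect closure -/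
section Perf

variable (p : ℕ) [Fact p.Prime] (R : Type u) [CommRing R] [CharP R p]

/-- the algebra structure used in the statement -/
@[reducible] noncomputable def algPC : Algebra R (PerfectClosure R p) :=
  (PerfectClosure.of R p).toAlgebra

attribute [local instance] algPC

theorem pow_inj (n : ℕ) {a b : PerfectClosure R p} (h : a ^ p ^ n = b ^ p ^ n) : a = b :=
  iterateFrobenius_inj (PerfectClosure R p) p n h

noncomputable def U (n : ℕ) : Subalgebra R (PerfectClosure R p) where
  carrier := {y | ∃ x : R, PerfectClosure.of R p x = y ^ p ^ n}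
  mul_mem' := by
    rintro a b ⟨x, hx⟩ ⟨y, hy⟩
    exact ⟨x * y, by rw [map_mul, hx, hy, mul_pow]⟩
  one_mem' := ⟨1, by rw [map_one, one_pow]⟩
  add_mem' := by
    rintro a b ⟨x, hx⟩ ⟨y, hy⟩
    exact ⟨x + y, by rw [map_add, hx, hy, add_pow_char_pow]⟩
  zero_mem' := ⟨0, by rw [map_zero, zero_pow (pow_ne_zero _ (Fact.out : p.Prime).ne_zero)]⟩
  algebraMap_mem' r := ⟨r ^ p ^ n, map_pow (PerfectClosure.of R p) r (p ^ n)⟩

theorem U_mono : Monotone (U p R) := by
  apply monotone_nat_of_le_succ
  rintro n y ⟨x, hx⟩
  exact ⟨x ^ p, by rw [map_pow, hx, ← pow_mul, ← pow_succ]⟩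

theorem exists_mem_U (y : PerfectClosure R p) : ∃ n, y ∈ U p R n := by
  refine PerfectClosure.induction_on y (fun x => ?_)
  obtain ⟨n, x⟩ := x
  exact ⟨n, x, by rw [← iterate_frobenius, PerfectClosure.iterate_frobenius_mk]⟩

noncomputable def iotaHom (n : ℕ) : R →+* U p R n :=
  RingHom.codRestrict
    ((iterateFrobeniusEquiv (PerfectClosure R p) p n).symm.toRingHom.comp (PerfectClosure.of R p))
    (U p R n)
    (fun x => ⟨x, ((iterateFrobeniusEquiv (PerfectClosure R p) p n).apply_symm_apply
      (PerfectClosure.of R p x)).symm⟩)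

theorem iotaHom_pow (n : ℕ) (x : R) :
    ((iotaHom p R n x : U p R n) : PerfectClosure R p) ^ p ^ n = PerfectClosure.of R p x :=
  (iterateFrobeniusEquiv (PerfectClosure R p) p n).apply_symm_apply (PerfectClosure.of R p x)

variable [Module.Projective R (FrobAlg.Twist p R)]

theorem faithfullyFlat_twist : Module.FaithfullyFlat R (FrobAlg.Twist p R) :=
  faithfullyFlat_of_section p (Fact.out : p.Prime).ne_zero
    ((FrobAlg.toTwist p R).symm : FrobAlg.Twist p R →+* R)
    (fun a => by rw [FrobAlg.algebraMap_twist]; exact RingEquiv.symm_apply_apply _ _)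

theorem frobenius_injective : Function.Injective (frobenius R p) := by
  haveI := faithfullyFlat_twist p R
  have h := FaithfulSMul.algebraMap_injective R (FrobAlg.Twist p R)
  intro x y hxy
  apply h
  rw [FrobAlg.algebraMap_twist, FrobAlg.algebraMap_twist]
  exact congrArg _ hxy

theorem of_injective : Function.Injective (PerfectClosure.of R p) := by
  intro x y h
  rw [PerfectClosure.of_apply, PerfectClosure.of_apply, PerfectClosure.mk_eq_iff] at h
  obtain ⟨z, hz⟩ := h
  exact (frobenius_injective p R).iterate _ hz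

theorem iotaHom_bijective (n : ℕ) : Function.Bijective (iotaHom p R n) := by
  constructor
  · intro x y h
    apply of_injective p R
    rw [← iotaHom_pow p R n x, ← iotaHom_pow p R n y, h]
  · rintro ⟨y, x, hx⟩
    refine ⟨x, Subtype.ext (pow_inj p R n ?_)⟩
    rw [iotaHom_pow]
    exact hx

noncomputable def iota (n : ℕ) : R ≃+* U p R n :=
  RingEquiv.ofBijective (iotaHom p R n) (iotaHom_bijective p R n)

theorem iota_pow (n : ℕ) (x : R) :
    ((iota p R n x : U p R n) : PerfectClosure R p) ^ p ^ n = PerfectClosure.of R p x :=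
  iotaHom_pow p R n x

theorem inclusion_iota (n : ℕ) (r : R) :
    Subalgebra.inclusion (U_mono p R (Nat.le_succ n)) (iota p R n r) =
      iota p R (n + 1) (r ^ p) := by
  apply Subtype.ext
  apply pow_inj p R (n + 1)
  rw [iota_pow, map_pow]
  show ((iota p R n r : U p R n) : PerfectClosure R p) ^ p ^ (n + 1) = _
  rw [pow_succ, pow_mul, iota_pow]

omit [Module.Projective R (FrobAlg.Twist p R)] in
theorem step_props {R₀ : Type*} [CommRing R₀] [CharP R₀ p]
    [Module.Projective R₀ (FrobAlg.Twist p R₀)]
    {A B : Type*} [CommRing A] [CommRing B] (f : A →+* B) (a : R₀ ≃+* A) (b : R₀ ≃+* B)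
    (hab : ∀ r, f (a r) = b (r ^ p)) :
    letI := f.toAlgebra
    Module.Projective A B ∧ Module.FaithfullyFlat A B := by
  letI := f.toAlgebra
  have hproj : Module.Projective A B := by
    haveI : RingHomInvPair (a : R₀ →+* A) (a.symm : A →+* R₀) := RingHomInvPair.of_ringEquiv a
    haveI : RingHomInvPair (a.symm : A →+* R₀) (a : R₀ →+* A) := RingHomInvPair.symm _ _
    let e₂ : FrobAlg.Twist p R₀ ≃ₛₗ[(a : R₀ →+* A)] B :=
      { toFun := fun x => b ((FrobAlg.toTwist p R₀).symm x)
        map_add' := fun x y => by rw [map_add, map_add]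
        map_smul' := fun m x => by
          show b ((FrobAlg.toTwist p R₀).symm (m • x)) =
            f (a m) * b ((FrobAlg.toTwist p R₀).symm x)
          rw [Algebra.smul_def, FrobAlg.algebraMap_twist, map_mul, RingEquiv.symm_apply_apply,
            map_mul, hab]
        invFun := fun y => FrobAlg.toTwist p R₀ (b.symm y)
        left_inv := fun x => by simp
        right_inv := fun y => by simp }
    exact Module.Projective.of_equiv e₂
  refine ⟨hproj, ?_⟩
  haveI := hproj
  refine faithfullyFlat_of_section p (Fact.out : p.Prime).ne_zero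
    ((a : R₀ →+* A).comp (b.symm : B →+* R₀)) (fun x => ?_)
  obtain ⟨r, rfl⟩ := a.surjective x
  show a (b.symm (f (a r))) = (a r) ^ p
  rw [hab, RingEquiv.symm_apply_apply, map_pow]

theorem U_step (n : ℕ) :
    letI := (Subalgebra.inclusion (U_mono p R (Nat.le_succ n))).toRingHom.toAlgebra
    Module.Projective (U p R n) (U p R (n + 1)) ∧
      Module.FaithfullyFlat (U p R n) (U p R (n + 1)) :=
  step_props p (Subalgebra.inclusion (U_mono p R (Nat.le_succ n))).toRingHom
    (iota p R n) (iota p R (n + 1)) (inclusion_iota p R n)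

theorem U_proj (n : ℕ) : Module.Projective R (U p R n) := by
  induction n with
  | zero =>
    have hb : Function.Bijective (Algebra.linearMap R (U p R 0)) := by
      constructor
      · intro x y h
        apply of_injective p R
        exact congrArg Subtype.val h
      · rintro ⟨y, x, hx⟩
        refine ⟨x, Subtype.ext ?_⟩
        rw [pow_zero, pow_one] at hx
        exact hx
    exact Module.Projective.of_equiv' (LinearEquiv.ofBijective _ hb)
  | succ n ih =>
    haveI := ih
    exact projective_trans (Subalgebra.inclusion (U_mono p R (Nat.le_succ n))) (U_step p R n).1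

theorem U_pure (n : ℕ) (N : Type w) [AddCommGroup N] [Module R N] :
    Function.Injective
      ((Subalgebra.inclusion (U_mono p R (Nat.le_succ n))).toLinearMap.rTensor N) :=
  rTensor_injective_of_faithfullyFlat _ (U_step p R n).2 N

theorem main {X : Type*} [AddCommGroup X] [Module R X] {ι : Type*} {Y : ι → Type w}
    [∀ i, AddCommGroup (Y i)] [∀ i, Module R (Y i)]
    (g : ∀ i, X →ₗ[R] Y i) (hg : ∀ x : X, (∀ i, g i x = 0) → x = 0) :
    Function.Injective (LinearMap.pi fun i => (g i).lTensor (PerfectClosure R p)) :=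
  tower_injective (U p R) (U_mono p R) (exists_mem_U p R) (U_proj p R)
    (fun n N _ _ => U_pure p R n N) g hg

end Perf

end Groth.Agent.H8.FrobPerf
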