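import Groth.Prelude.Def_Frob
import Mathlib

set_option autoImplicit false
universe u
open CategoryTheory CategoryTheory.Limits AlgebraicGeometry

namespace Groth.Agent.H8.RelPerf

open FrobSch

/-- The relative Frobenius of `a : X ⟶ S` is an isomorphism iff the Frobenius square is cartesian. -/
theorem isIso_relFrob_iff (p : ℕ) [Fact p.Prime] {X S : Scheme.{u}} [IsCharP S p] [IsCharP X p]
    (a : X ⟶ S) :
    IsIso (relFrob a p) ↔ IsPullback (frob X p) a a (frob S p) := by
  constructor
  · intro h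
    exact IsPullback.of_iso_pullback ⟨frob_comp p a⟩ (asIso (relFrob a p)) (relFrob_fst a p)
      (relFrob_snd a p)
  · intro h
    have : relFrob a p = h.isoPullback.hom := by
      apply pullback.hom_ext
      · rw [relFrob_fst, IsPullback.isoPullback_hom_fst]
      · rw [relFrob_snd, IsPullback.isoPullback_hom_snd]
    rw [this]; infer_instance

/-- Relatively perfect morphisms are stable under composition. -/
theorem isIso_relFrob_comp (p : ℕ) [Fact p.Prime] {X T S : Scheme.{u}} [IsCharP S p] [IsCharP T p]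
    (f : T ⟶ S) (hf : IsIso (relFrob f p)) (π : X ⟶ T) (hπ : IsIso (relFrob π p)) :
    IsIso (relFrob (π ≫ f) p) := by
  have : IsCharP X p := IsCharP.of_hom π p
  exact (isIso_relFrob_iff p (π ≫ f)).mpr
    (((isIso_relFrob_iff p π).mp hπ).paste_vert ((isIso_relFrob_iff p f).mp hf))

/-- Relatively perfect morphisms are stable under base change. -/
theorem isIso_relFrob_snd (p : ℕ) [Fact p.Prime] {Y T S : Scheme.{u}} [IsCharP S p] [IsCharP T p]
    (r : Y ⟶ S) (hr : IsIso (relFrob r p)) (f : T ⟶ S) :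
    IsIso (relFrob (pullback.snd r f) p) := by
  have : IsCharP Y p := IsCharP.of_hom r p
  have : IsCharP (pullback r f) p := IsCharP.of_hom (pullback.snd r f) p
  have hr' := (isIso_relFrob_iff p r).mp hr
  have hα : IsPullback (pullback.fst r f) (pullback.snd r f) r f := IsPullback.of_hasPullback r f
  have hcomp : IsPullback (pullback.fst r f ≫ frob Y p) (pullback.snd r f) r (f ≫ frob S p) :=
    hα.paste_horiz hr'
  have hs : IsPullback (frob (pullback r f) p ≫ pullback.fst r f) (pullback.snd r f) r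
      (frob T p ≫ f) := by
    rw [frob_comp, frob_comp]; exact hcomp
  exact (isIso_relFrob_iff p _).mpr (IsPullback.of_right hs (frob_comp p _) hα)

theorem main (p : ℕ) [Fact p.Prime] {X X' T S : Scheme.{u}}
    [IsCharP S p] [IsCharP T p] (f : T ⟶ S) (hf : IsIso (relFrob f p))
    (g : X ⟶ T) (π : X' ⟶ T) (hπ : IsIso (relFrob π p)) (c : X ⟶ X') (hc : c ≫ π = g)
    (huniv : ∀ (Y : Scheme.{u}) (q : Y ⟶ T), IsIso (relFrob q p) →
      ∀ k : X ⟶ Y, k ≫ q = g → ∃! h : X' ⟶ Y, h ≫ q = π ∧ c ≫ h = k) :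
    IsIso (relFrob (π ≫ f) p) ∧
      ∀ (Y : Scheme.{u}) (r : Y ⟶ S), IsIso (relFrob r p) →
        ∀ k : X ⟶ Y, k ≫ r = g ≫ f → ∃! h : X' ⟶ Y, h ≫ r = π ≫ f ∧ c ≫ h = k := by
  refine ⟨isIso_relFrob_comp p f hf π hπ, ?_⟩
  intro Y r hr k hk
  obtain ⟨h', ⟨hh1, hh2⟩, huniq⟩ := huniv (pullback r f) (pullback.snd r f)
    (isIso_relFrob_snd p r hr f) (pullback.lift k g hk) (pullback.lift_snd _ _ _)
  refine ⟨h' ≫ pullback.fst r f, ⟨?_, ?_⟩, ?_⟩
  · rw [Category.assoc, pullback.condition, ← Category.assoc, hh1]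
  · rw [← Category.assoc, hh2, pullback.lift_fst]
  · rintro h₁ ⟨h₁a, h₁b⟩
    have key : pullback.lift h₁ π h₁a = h' := by
      apply huniq
      refine ⟨pullback.lift_snd _ _ _, ?_⟩
      apply pullback.hom_ext
      · rw [Category.assoc, pullback.lift_fst, pullback.lift_fst, h₁b]
      · rw [Category.assoc, pullback.lift_snd, pullback.lift_snd, hc]
    rw [← key, pullback.lift_fst]

end Groth.Agent.H8.RelPerf
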